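import Groth.Agent.Lib.RingDesc.Pure
import Groth.Prelude.Def_Desc

/-!
# Descent data of modules along a ring map as coactions
-/

set_option autoImplicit false
set_option backward.isDefEq.respectTransparency false
universe u

open CategoryTheory Opposite TensorProduct
open scoped ChangeOfRings

namespace GrothLib.RingDesc

section elements

variable {X₀ X₁ X₂ : CommRingCat.{u}ᵒᵖ}

/-- Extension of scalars along a morphism. -/
noncomputable abbrev E (f : X₁ ⟶ X₀) (M : ModuleCat.{u} X₀.unop) : ModuleCat.{u} X₁.unop :=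
  (ModuleCat.extendScalars f.unop.hom).obj M

/-- `1 ⊗ m`. -/
noncomputable def one (f : X₁ ⟶ X₀) (M : ModuleCat.{u} X₀.unop) (m : M) : E f M :=
  (1 : X₁.unop) ⊗ₜ[X₀.unop, f.unop.hom] m

theorem tmul_eq_smul_one (f : X₁ ⟶ X₀) (M : ModuleCat.{u} X₀.unop) (t : X₁.unop) (m : M) :
    (t ⊗ₜ[X₀.unop, f.unop.hom] m : E f M) = t • one f M m := by
  show _ = (t * 1) ⊗ₜ[X₀.unop, f.unop.hom] m
  rw [mul_one]

theorem one_add (f : X₁ ⟶ X₀) (M : ModuleCat.{u} X₀.unop) (m m' : M) :
    one f M (m + m') = one f M m + one f M m' :=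
  letI := f.unop.hom.toAlgebra
  TensorProduct.tmul_add _ _ _

theorem one_zero (f : X₁ ⟶ X₀) (M : ModuleCat.{u} X₀.unop) : one f M 0 = 0 :=
  letI := f.unop.hom.toAlgebra
  TensorProduct.tmul_zero _ _

theorem one_smul' (f : X₁ ⟶ X₀) (M : ModuleCat.{u} X₀.unop) (s : X₀.unop) (m : M) :
    one f M (s • m) = f.unop.hom s • one f M m := by
  letI := f.unop.hom.toAlgebra
  rw [← tmul_eq_smul_one]
  show (1 : X₁.unop) ⊗ₜ[X₀.unop] (s • m) = (f.unop.hom s) ⊗ₜ[X₀.unop] m
  rw [← TensorProduct.smul_tmul, Algebra.smul_def, mul_one]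
  rfl

theorem E_induction (f : X₁ ⟶ X₀) (M : ModuleCat.{u} X₀.unop) {P : E f M → Prop} (h0 : P 0)
    (ht : ∀ (t : X₁.unop) (m : M), P (t • one f M m)) (hadd : ∀ y z, P y → P z → P (y + z)) (z : E f M) : P z := by
  letI := f.unop.hom.toAlgebra
  induction z using TensorProduct.induction_on with
  | zero => exact h0
  | tmul t m =>
    have := ht t m
    rwa [← tmul_eq_smul_one] at this
  | add y z hy hz => exact hadd y z hy hz

theorem mapComp'_hom_one (f : X₁ ⟶ X₀) (g : X₂ ⟶ X₁) (fg : X₂ ⟶ X₀) (h : g ≫ f = fg)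
    (M : ModuleCat.{u} X₀.unop) (m : M) :
    ((Desc.ringModPF.{u}.mapComp' f.op.toLoc g.op.toLoc fg.op.toLoc (by subst h; rfl)).hom.toNatTrans.app M).hom
      (one fg M m) = one g (E f M) (one f M m) := by
  subst h
  exact ModuleCat.extendScalarsComp_hom_app_one_tmul f.unop.hom g.unop.hom M m

theorem mapComp'_inv_one (f : X₁ ⟶ X₀) (g : X₂ ⟶ X₁) (fg : X₂ ⟶ X₀) (h : g ≫ f = fg)
    (M : ModuleCat.{u} X₀.unop) (m : M) :
    ((Desc.ringModPF.{u}.mapComp' f.op.toLoc g.op.toLoc fg.op.toLoc (by subst h; rfl)).inv.toNatTrans.app M).hom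
      (one g (E f M) (one f M m)) = one fg M m := by
  rw [← mapComp'_hom_one f g fg h M m]
  have := Cat.Hom.hom_inv_id_toNatTrans_app
    (Desc.ringModPF.{u}.mapComp' f.op.toLoc g.op.toLoc fg.op.toLoc (by subst h; rfl)) M
  exact congr($(congrArg ModuleCat.Hom.hom this) (one fg M m))

/-- The semilinear push forward of elements along `g`. -/
noncomputable def push (f : X₁ ⟶ X₀) (g : X₂ ⟶ X₁) (fg : X₂ ⟶ X₀) (h : g ≫ f = fg)
    (M : ModuleCat.{u} X₀.unop) (y : E f M) : E fg M :=
  ((Desc.ringModPF.{u}.mapComp' f.op.toLoc g.op.toLoc fg.op.toLoc (by subst h; rfl)).inv.toNatTrans.app M).hom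
    (one g (E f M) y)

variable (f : X₁ ⟶ X₀) (g : X₂ ⟶ X₁) (fg : X₂ ⟶ X₀) (h : g ≫ f = fg) (M : ModuleCat.{u} X₀.unop)

theorem push_one (m : M) : push f g fg h M (one f M m) = one fg M m := mapComp'_inv_one f g fg h M m

theorem push_smul (t : X₁.unop) (y : E f M) : push f g fg h M (t • y) = g.unop.hom t • push f g fg h M y := by
  rw [push, one_smul', map_smul]
  rfl

theorem push_add (y z : E f M) : push f g fg h M (y + z) = push f g fg h M y + push f g fg h M z := by
  rw [push, one_add, map_add]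
  rfl

theorem push_zero : push f g fg h M 0 = 0 := by rw [push, one_zero, map_zero]

end elements

variable (R S : Type u) [CommRing R] [CommRing S] [Algebra R S]

/-- The morphism of `CommRingCatᵒᵖ` of the ring map. -/
abbrev η : op (CommRingCat.of S) ⟶ op (CommRingCat.of R) := (CommRingCat.ofHom (algebraMap R S)).op

/-- Descent data along the ring map. -/
abbrev DD := Desc.ringModPF.{u}.DescentData (fun _ : PUnit.{u + 1} => η R S)

variable {R S}

/-- The module of a descent datum. -/
abbrev ob (D : DD R S) : ModuleCat.{u} (CommRingCat.of S) := D.obj PUnit.unit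

theorem eq_of_comp {Y : CommRingCat.{u}ᵒᵖ} {a b : Y ⟶ op (CommRingCat.of S)} (hab : a ≫ η R S = b ≫ η R S) (r : R) :
    a.unop.hom (algebraMap R S r) = b.unop.hom (algebraMap R S r) :=
  congr(($hab).unop.hom r)

variable (D : DD R S)

/-- The gluing maps of a descent datum. -/
noncomputable def φ {Y : CommRingCat.{u}ᵒᵖ} (a b : Y ⟶ op (CommRingCat.of S)) (hab : a ≫ η R S = b ≫ η R S) :
    E a (ob D) →ₗ[Y.unop] E b (ob D) :=
  (D.hom (i₁ := PUnit.unit) (i₂ := PUnit.unit) (a ≫ η R S) a b rfl hab.symm).hom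

theorem φ_self {Y : CommRingCat.{u}ᵒᵖ} (a : Y ⟶ op (CommRingCat.of S)) (z : E a (ob D)) : φ D a a rfl z = z :=
  congr(($(D.hom_self (i := PUnit.unit) (a ≫ η R S) a rfl)).hom z)

theorem φ_comp {Y : CommRingCat.{u}ᵒᵖ} (a b c : Y ⟶ op (CommRingCat.of S)) (hab : a ≫ η R S = b ≫ η R S)
    (hbc : b ≫ η R S = c ≫ η R S) (z : E a (ob D)) :
    φ D b c hbc (φ D a b hab z) = φ D a c (hab.trans hbc) z := by
  have h := D.hom_comp (i₁ := PUnit.unit) (i₂ := PUnit.unit) (i₃ := PUnit.unit) (a ≫ η R S) a b c rfl hab.symm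
    (hab.trans hbc).symm
  have e : φ D b c hbc =
      (D.hom (i₁ := PUnit.unit) (i₂ := PUnit.unit) (a ≫ η R S) b c hab.symm (hab.trans hbc).symm).hom := by
    unfold φ
    congr 2
    exact hab.symm
  rw [e]
  exact congr(($h).hom z)

theorem φ_push {Y Y' : CommRingCat.{u}ᵒᵖ} (g : Y' ⟶ Y) (a b : Y ⟶ op (CommRingCat.of S))
    (hab : a ≫ η R S = b ≫ η R S) (a' b' : Y' ⟶ op (CommRingCat.of S)) (ha : g ≫ a = a') (hb : g ≫ b = b')
    (hab' : a' ≫ η R S = b' ≫ η R S) (n : ob D) :
    φ D a' b' hab' (one a' (ob D) n) = push b g b' hb (ob D) (φ D a b hab (one a (ob D) n)) := by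
  have h := D.pullHom_hom (i₁ := PUnit.unit) (i₂ := PUnit.unit) g (a ≫ η R S) (a' ≫ η R S)
    (by rw [← Category.assoc, ha]) a b rfl hab.symm a' b' ha hb
  show (D.hom (a' ≫ η R S) a' b' rfl hab'.symm).hom _ = _
  rw [← h]
  have h1 := mapComp'_hom_one a g a' ha (ob D) n
  show ((Desc.ringModPF.{u}.mapComp' b.op.toLoc g.op.toLoc b'.op.toLoc (by subst hb; rfl)).inv.toNatTrans.app (ob D)).hom
    (((ModuleCat.extendScalars g.unop.hom).map (D.hom (a ≫ η R S) a b rfl hab.symm)).hom
      (((Desc.ringModPF.{u}.mapComp' a.op.toLoc g.op.toLoc a'.op.toLoc (by subst ha; rfl)).hom.toNatTrans.app (ob D)).hom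
        (one a' (ob D) n))) = _
  rw [h1]
  rfl

/-- The restriction of scalars to `R`. -/
@[instance_reducible]
noncomputable def modR : Module R (ob D) := Module.compHom _ (algebraMap R S)

variable [Module R (ob D)] [IsScalarTower R S (ob D)]

/-- `s ⊗ n ↦ a(s) ⊗ n`. -/
noncomputable def G {Y : CommRingCat.{u}ᵒᵖ} (a b : Y ⟶ op (CommRingCat.of S)) (hab : a ≫ η R S = b ≫ η R S) :
    S ⊗[R] (ob D) →+ E b (ob D) :=
  TensorProduct.liftAddHom
    (AddMonoidHom.mk' (fun s : S => AddMonoidHom.mk' (fun n : ob D => a.unop.hom s • one b (ob D) n)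
      fun n n' => by rw [one_add, smul_add])
      fun s s' => AddMonoidHom.ext fun n => by
        show a.unop.hom (s + s') • one b (ob D) n = a.unop.hom s • one b (ob D) n + a.unop.hom s' • one b (ob D) n
        rw [map_add, add_smul])
    fun r s n => by
      show a.unop.hom (r • s) • one b (ob D) n = a.unop.hom s • one b (ob D) (r • n)
      rw [Algebra.smul_def, map_mul, eq_of_comp hab, mul_comm, mul_smul, ← algebraMap_smul S r n, one_smul']

theorem G_tmul {Y : CommRingCat.{u}ᵒᵖ} (a b : Y ⟶ op (CommRingCat.of S)) (hab : a ≫ η R S = b ≫ η R S)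
    (s : S) (n : ob D) : G D a b hab (s ⊗ₜ n) = a.unop.hom s • one b (ob D) n := rfl

/-- `Spec (S ⊗ S)`. -/
abbrev Y2 : CommRingCat.{u}ᵒᵖ := op (CommRingCat.of (S ⊗[R] S))

/-- The first projection. -/
abbrev p₁ : Y2 (R := R) (S := S) ⟶ op (CommRingCat.of S) :=
  (CommRingCat.ofHom (Algebra.TensorProduct.includeLeft : S →ₐ[R] S ⊗[R] S).toRingHom).op

/-- The second projection. -/
abbrev p₂ : Y2 (R := R) (S := S) ⟶ op (CommRingCat.of S) :=
  (CommRingCat.ofHom (Algebra.TensorProduct.includeRight : S →ₐ[R] S ⊗[R] S).toRingHom).op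

theorem p_eq : p₁ (R := R) (S := S) ≫ η R S = p₂ ≫ η R S := by
  apply Quiver.Hom.unop_inj
  ext r
  exact (Algebra.TensorProduct.includeLeft : S →ₐ[R] S ⊗[R] S).commutes r |>.trans
    ((Algebra.TensorProduct.includeRight : S →ₐ[R] S ⊗[R] S).commutes r).symm

/-- `(s ⊗ s') ⊗ n ↦ s ⊗ s' n`. -/
noncomputable def e2 : E (p₂ (R := R) (S := S)) (ob D) →+ S ⊗[R] (ob D) :=
  letI := (p₂ (R := R) (S := S)).unop.hom.toAlgebra
  TensorProduct.liftAddHom
    (AddMonoidHom.mk' (fun t : S ⊗[R] S => AddMonoidHom.mk'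
      (fun n : ob D => ((LinearMap.toSpanSingleton S (ob D) n).restrictScalars R).lTensor S t)
      fun n n' => by
        induction t using TensorProduct.induction_on with
        | zero => simp
        | tmul s s' => simp [TensorProduct.tmul_add]
        | add x y hx hy => simp only [map_add, hx, hy]; abel)
      fun t t' => AddMonoidHom.ext fun n => by simp)
    fun (s : S) (t : S ⊗[R] S) (n : ob D) => by
      show ((LinearMap.toSpanSingleton S (ob D) n).restrictScalars R).lTensor S (((1 : S) ⊗ₜ[R] s) * t) =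
        ((LinearMap.toSpanSingleton S (ob D) (s • n)).restrictScalars R).lTensor S t
      induction t using TensorProduct.induction_on with
      | zero => simp
      | tmul x y =>
        rw [Algebra.TensorProduct.tmul_mul_tmul, one_mul, LinearMap.lTensor_tmul, LinearMap.lTensor_tmul]
        congr 1
        show (s * y) • n = y • (s • n)
        rw [mul_comm, mul_smul]
      | add x y hx hy => simp only [mul_add, map_add, hx, hy]

theorem e2_smul_one (t : S ⊗[R] S) (n : ob D) :
    e2 D (t • one p₂ (ob D) n) = ((LinearMap.toSpanSingleton S (ob D) n).restrictScalars R).lTensor S t := by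
  exact (congrArg (e2 D) (tmul_eq_smul_one p₂ (ob D) t n).symm).trans rfl

theorem e2_G (x : S ⊗[R] (ob D)) : e2 D (G D p₁ p₂ p_eq x) = x := by
  induction x using TensorProduct.induction_on with
  | zero => simp
  | add x y hx hy => rw [map_add, map_add, hx, hy]
  | tmul s n =>
    rw [G_tmul, e2_smul_one]
    show ((LinearMap.toSpanSingleton S (ob D) n).restrictScalars R).lTensor S (s ⊗ₜ[R] (1 : S)) = _
    simp

theorem G_e2 (y : E (p₂ (R := R) (S := S)) (ob D)) : G D p₁ p₂ p_eq (e2 D y) = y := by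
  induction y using E_induction p₂ (ob D) with
  | h0 => rw [map_zero, map_zero]
  | hadd y z hy hz => rw [map_add, map_add, hy, hz]
  | ht t n =>
    rw [e2_smul_one]
    induction t using TensorProduct.induction_on with
    | zero => simp
    | add x y hx hy => rw [map_add, map_add, hx, hy, add_smul]
    | tmul s s' =>
      rw [LinearMap.lTensor_tmul, G_tmul]
      show (s ⊗ₜ[R] (1 : S) : S ⊗[R] S) • one p₂ (ob D) (s' • n) = (s ⊗ₜ[R] s' : S ⊗[R] S) • one p₂ (ob D) n
      rw [one_smul']
      show (s ⊗ₜ[R] (1 : S) : S ⊗[R] S) • ((1 : S) ⊗ₜ[R] s' : S ⊗[R] S) • one p₂ (ob D) n = _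
      rw [← mul_smul, Algebra.TensorProduct.tmul_mul_tmul, mul_one, one_mul]

/-- The coaction of a descent datum. -/
noncomputable def rho : (ob D) →ₗ[S] S ⊗[R] (ob D) where
  toFun n := e2 D (φ D p₁ p₂ p_eq (one p₁ (ob D) n))
  map_add' n n' := by rw [one_add, map_add, map_add]
  map_smul' s n := by
    rw [one_smul', map_smul, RingHom.id_apply]
    generalize φ D p₁ p₂ p_eq (one p₁ (ob D) n) = y
    induction y using E_induction p₂ (ob D) with
    | h0 => simp
    | hadd y z hy hz => rw [smul_add, map_add, map_add, hy, hz, smul_add]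
    | ht t m =>
      rw [← mul_smul, e2_smul_one, e2_smul_one]
      show ((LinearMap.toSpanSingleton S (ob D) m).restrictScalars R).lTensor S ((s ⊗ₜ[R] (1 : S)) * t) = _
      induction t using TensorProduct.induction_on with
      | zero => simp
      | tmul x y => simp [Algebra.TensorProduct.tmul_mul_tmul, TensorProduct.smul_tmul']
      | add x y hx hy => simp only [mul_add, map_add, hx, hy, smul_add]

/-- All gluing maps are given by the coaction. -/
theorem φ_one {Y : CommRingCat.{u}ᵒᵖ} (a b : Y ⟶ op (CommRingCat.of S)) (hab : a ≫ η R S = b ≫ η R S) (n : ob D) :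
    φ D a b hab (one a (ob D) n) = G D a b hab (rho D n) := by
  letI : Algebra R Y.unop := (a.unop.hom.comp (algebraMap R S)).toAlgebra
  let A : S →ₐ[R] Y.unop := { a.unop.hom with commutes' := fun r => rfl }
  let B : S →ₐ[R] Y.unop := { b.unop.hom with commutes' := fun r => (eq_of_comp hab r).symm }
  let g : Y ⟶ Y2 (R := R) (S := S) :=
    (CommRingCat.ofHom (Algebra.TensorProduct.lift A B (fun _ _ => Commute.all _ _)).toRingHom).op
  have ha : g ≫ p₁ = a := by
    apply Quiver.Hom.unop_inj
    ext s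
    show Algebra.TensorProduct.lift A B (fun x y => Commute.all (A x) (B y)) (s ⊗ₜ[R] (1 : S)) = _
    rw [Algebra.TensorProduct.lift_tmul, map_one, mul_one]
    rfl
  have hb : g ≫ p₂ = b := by
    apply Quiver.Hom.unop_inj
    ext s
    show Algebra.TensorProduct.lift A B (fun x y => Commute.all (A x) (B y)) ((1 : S) ⊗ₜ[R] s) = _
    rw [Algebra.TensorProduct.lift_tmul, map_one, one_mul]
    rfl
  rw [φ_push D g p₁ p₂ p_eq a b ha hb hab n, ← G_e2 D (φ D p₁ p₂ p_eq (one p₁ (ob D) n))]
  show push p₂ g b hb (ob D) (G D p₁ p₂ p_eq (rho D n)) = _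
  generalize rho D n = x
  induction x using TensorProduct.induction_on with
  | zero => simp [push_zero]
  | add x y hx hy => rw [map_add, map_add, push_add, hx, hy]
  | tmul s m =>
    rw [G_tmul, G_tmul, push_smul, push_one]
    congr 1
    exact congr(($ha).unop.hom s)

theorem rho_counit (n : ob D) :
    LinearMap.liftBaseChange S (LinearMap.id : (ob D) →ₗ[R] (ob D)) (rho D n) = n := by
  let a : op (CommRingCat.of S) ⟶ op (CommRingCat.of S) := (CommRingCat.ofHom (RingHom.id S)).op
  have h : G D a a rfl (rho D n) = one a (ob D) n := (φ_one D a a rfl n).symm.trans (φ_self D a _)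
  have key : ∀ x, G D a a rfl x =
      one a (ob D) (LinearMap.liftBaseChange S (LinearMap.id : (ob D) →ₗ[R] (ob D)) x) := by
    intro x
    induction x using TensorProduct.induction_on with
    | zero => rw [map_zero, map_zero, one_zero]
    | add x y hx hy => rw [map_add, map_add, one_add, hx, hy]
    | tmul s m =>
      rw [G_tmul, LinearMap.liftBaseChange_tmul, one_smul']
      rfl
  rw [key] at h
  have := congrArg ((ModuleCat.extendScalarsId (CommRingCat.of S)).hom.app (ob D)) h
  exact (ModuleCat.extendScalarsId_hom_app_one_tmul _ _).symm.trans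
    (this.trans (ModuleCat.extendScalarsId_hom_app_one_tmul _ _))

/-- `Spec (S ⊗ S ⊗ S)`. -/
abbrev Y3 : CommRingCat.{u}ᵒᵖ := op (CommRingCat.of (S ⊗[R] (S ⊗[R] S)))

theorem rho_coassoc (n : ob D) :
    ((rho D).restrictScalars R).lTensor S (rho D n) = (TensorProduct.mk R S (ob D) 1).lTensor S (rho D n) := by
  let q1 : S →ₐ[R] S ⊗[R] (S ⊗[R] S) := Algebra.TensorProduct.includeLeft
  let q2 : S →ₐ[R] S ⊗[R] (S ⊗[R] S) :=
    Algebra.TensorProduct.includeRight.comp Algebra.TensorProduct.includeLeft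
  let q3 : S →ₐ[R] S ⊗[R] (S ⊗[R] S) :=
    Algebra.TensorProduct.includeRight.comp Algebra.TensorProduct.includeRight
  let a : Y3 (R := R) (S := S) ⟶ op (CommRingCat.of S) := (CommRingCat.ofHom q1.toRingHom).op
  let b : Y3 (R := R) (S := S) ⟶ op (CommRingCat.of S) := (CommRingCat.ofHom q2.toRingHom).op
  let c : Y3 (R := R) (S := S) ⟶ op (CommRingCat.of S) := (CommRingCat.ofHom q3.toRingHom).op
  have hab : a ≫ η R S = b ≫ η R S := by
    apply Quiver.Hom.unop_inj
    ext r
    exact (q1.commutes r).trans (q2.commutes r).symm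
  have hbc : b ≫ η R S = c ≫ η R S := by
    apply Quiver.Hom.unop_inj
    ext r
    exact (q2.commutes r).trans (q3.commutes r).symm
  letI := c.unop.hom.toAlgebra
  let e3 : E c (ob D) →+ S ⊗[R] (S ⊗[R] (ob D)) := TensorProduct.liftAddHom
    (AddMonoidHom.mk' (fun t : S ⊗[R] (S ⊗[R] S) => AddMonoidHom.mk'
      (fun m : ob D => (((LinearMap.toSpanSingleton S (ob D) m).restrictScalars R).lTensor S).lTensor S t)
      fun m m' => by
        have e : (LinearMap.toSpanSingleton S (ob D) (m + m')).restrictScalars R =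
            (LinearMap.toSpanSingleton S (ob D) m).restrictScalars R +
              (LinearMap.toSpanSingleton S (ob D) m').restrictScalars R := LinearMap.ext fun y => smul_add y m m'
        rw [e, LinearMap.lTensor_add, LinearMap.lTensor_add, LinearMap.add_apply])
      fun t t' => AddMonoidHom.ext fun m => by simp)
    fun (s : S) (t : S ⊗[R] (S ⊗[R] S)) (m : ob D) => by
      show (((LinearMap.toSpanSingleton S (ob D) m).restrictScalars R).lTensor S).lTensor S
          (((1 : S) ⊗ₜ[R] ((1 : S) ⊗ₜ[R] s)) * t) =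
        (((LinearMap.toSpanSingleton S (ob D) (s • m)).restrictScalars R).lTensor S).lTensor S t
      induction t using TensorProduct.induction_on with
      | zero => simp
      | add x y hx hy => simp only [mul_add, map_add, hx, hy]
      | tmul x w =>
        rw [Algebra.TensorProduct.tmul_mul_tmul, one_mul, LinearMap.lTensor_tmul, LinearMap.lTensor_tmul]
        congr 1
        induction w using TensorProduct.induction_on with
        | zero => simp
        | add y z hy hz => simp only [mul_add, map_add, hy, hz]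
        | tmul y z =>
          rw [Algebra.TensorProduct.tmul_mul_tmul, one_mul, LinearMap.lTensor_tmul, LinearMap.lTensor_tmul]
          congr 1
          show (s * z) • m = z • (s • m)
          rw [mul_comm, mul_smul]
  have he3 : ∀ (t : S ⊗[R] (S ⊗[R] S)) (m : ob D), e3 (t • one c (ob D) m) =
      (((LinearMap.toSpanSingleton S (ob D) m).restrictScalars R).lTensor S).lTensor S t := fun t m => by
    exact (congrArg e3 (tmul_eq_smul_one c (ob D) t m).symm).trans rfl
  have key := φ_comp D a b c hab hbc (one a (ob D) n)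
  rw [φ_one D a b hab, φ_one D a c] at key
  have hL : ∀ x, e3 (φ D b c hbc (G D a b hab x)) = ((rho D).restrictScalars R).lTensor S x := by
    intro x
    induction x using TensorProduct.induction_on with
    | zero => simp
    | add x y hx hy => simp only [map_add, hx, hy]
    | tmul s m =>
      rw [G_tmul, map_smul, φ_one]
      show e3 (a.unop.hom s • G D b c hbc (rho D m)) = s ⊗ₜ rho D m
      generalize rho D m = y
      induction y using TensorProduct.induction_on with
      | zero => simp
      | add y z hy hz => simp only [map_add, smul_add, hy, hz, TensorProduct.tmul_add]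
      | tmul y k =>
        rw [G_tmul, ← mul_smul, he3]
        show (((LinearMap.toSpanSingleton S (ob D) k).restrictScalars R).lTensor S).lTensor S
          ((s ⊗ₜ[R] ((1 : S) ⊗ₜ[R] (1 : S))) * ((1 : S) ⊗ₜ[R] (y ⊗ₜ[R] (1 : S)))) = _
        simp [Algebra.TensorProduct.tmul_mul_tmul]
  have hR : ∀ x, e3 (G D a c (hab.trans hbc) x) = (TensorProduct.mk R S (ob D) 1).lTensor S x := by
    intro x
    induction x using TensorProduct.induction_on with
    | zero => simp
    | add x y hx hy => simp only [map_add, hx, hy]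
    | tmul s m =>
      rw [G_tmul, he3]
      show (((LinearMap.toSpanSingleton S (ob D) m).restrictScalars R).lTensor S).lTensor S
          (s ⊗ₜ[R] ((1 : S) ⊗ₜ[R] (1 : S))) = _
      simp
  rw [← hL, key, hR]

end GrothLib.RingDesc
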