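import Groth.Agent.Lib.RingDesc.Main

/-!
# Descent of modules is an equivalence exactly for universally injective maps
-/

set_option autoImplicit false
set_option backward.isDefEq.respectTransparency false
universe u

open CategoryTheory Opposite TensorProduct
open scoped ChangeOfRings

namespace GrothLib.RingDesc

variable {R S : Type u} [CommRing R] [CommRing S] [Algebra R S]

/-- A preimage for each element of the source of a map of canonical descent data. -/
theorem exists_preimage (hinj : Pi1.UnivInjective R S) (M₁ M₂ : ModuleCat.{u} R)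
    (g : (toDD (R := R) (S := S)).obj M₁ ⟶ (toDD (R := R) (S := S)).obj M₂) (m : M₁) :
    ∃ x : M₂, one (η R S) M₂ x = (g.hom PUnit.unit).hom (one (η R S) M₁ m) :=
  exists_of_fixed' hinj ((toDD (R := R) (S := S)).obj M₂) M₂ (one (η R S) M₂)
    (one_add (η R S) M₂) (fun r x => one_smul' (η R S) M₂ r x) (fun x => φ_can M₂ p₁ p₂ p_eq x)
    (fun y => mem_span_one (η R S) M₂ y) _
    (fixed_map g (one (η R S) M₁ m) (φ_can M₁ p₁ p₂ p_eq m))

theorem map_eq_of_agree {X₀ X₁ : CommRingCat.{u}ᵒᵖ} (a : X₁ ⟶ X₀) {M N : ModuleCat.{u} X₀.unop} (f : M ⟶ N)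
    (h : E a M ⟶ E a N) (hf : ∀ m, one a N (f.hom m) = h.hom (one a M m)) :
    (ModuleCat.extendScalars a.unop.hom).map f = h := by
  refine ModuleCat.hom_ext (LinearMap.ext fun z => ?_)
  induction z using E_induction a M with
  | h0 => rw [map_zero, map_zero]
  | hadd y z hy hz => rw [map_add, map_add, hy, hz]
  | ht s m =>
    rw [map_smul, map_smul]
    congr 1
    exact hf m

theorem full_aux (hinj : Pi1.UnivInjective R S) (M₁ M₂ : ModuleCat.{u} R)
    (g : (toDD (R := R) (S := S)).obj M₁ ⟶ (toDD (R := R) (S := S)).obj M₂) :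
    ∃ f : M₁ ⟶ M₂, (toDD (R := R) (S := S)).map f = g := by
  let h : E (η R S) M₁ ⟶ E (η R S) M₂ := g.hom PUnit.unit
  choose f hf using exists_preimage hinj M₁ M₂ g
  let f' : M₁ ⟶ M₂ := ModuleCat.ofHom
    { toFun := f
      map_add' := fun m m' => one_injective hinj M₂ (by
        refine (hf _).trans ?_
        refine ((congrArg _ (one_add (η R S) M₁ m m')).trans (map_add _ _ _)).trans ?_
        exact ((one_add (η R S) M₂ _ _).trans (congrArg₂ (· + ·) (hf m) (hf m'))).symm)
      map_smul' := fun r m => one_injective hinj M₂ (by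
        refine (hf _).trans ?_
        refine ((congrArg _ (one_smul' (η R S) M₁ r m)).trans (map_smul _ _ _)).trans ?_
        exact ((one_smul' (η R S) M₂ r (f m)).trans (congrArg _ (hf m))).symm) }
  refine ⟨f', Pseudofunctor.DescentData.hom_ext fun i => ?_⟩
  cases i
  exact map_eq_of_agree (η R S) f' h hf

theorem fullyFaithful (hinj : Pi1.UnivInjective R S) :
    (toDD (R := R) (S := S)).Full ∧ (toDD (R := R) (S := S)).Faithful := by
  refine ⟨⟨fun {M₁ M₂} g => full_aux hinj M₁ M₂ g⟩, ⟨fun {M₁ M₂} f f' h => ?_⟩⟩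
  have h1 : ∀ (M₁ M₂ : ModuleCat.{u} R) (f f' : M₁ ⟶ M₂),
      (toDD (R := R) (S := S)).map f = (toDD (R := R) (S := S)).map f' → f = f' := fun M₁ M₂ f f' h =>
    ModuleCat.hom_ext (LinearMap.ext fun m => one_injective hinj M₂
      (congr(($(congrArg (fun k => Pseudofunctor.DescentData.Hom.hom k PUnit.unit) h)).hom
        (one (η R S) M₁ m))))
  exact h1 M₁ M₂ f f' h

theorem isEquivalence (hinj : Pi1.UnivInjective R S) : (toDD (R := R) (S := S)).IsEquivalence :=
  haveI := (fullyFaithful hinj).1
  haveI := (fullyFaithful hinj).2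
  haveI : (toDD (R := R) (S := S)).EssSurj := ⟨fun D => by
    obtain ⟨M, ⟨e⟩⟩ := essSurj hinj D
    exact ⟨M, ⟨e⟩⟩⟩
  Functor.IsEquivalence.mk

theorem univInjective_of_faithful (h : (toDD (R := R) (S := S)).Faithful) : Pi1.UnivInjective R S := by
  intro P _ _
  have hmk : ∀ x : P, ((1 : S) ⊗ₜ[R] x : S ⊗[R] P) = 0 → x = 0 := by
    intro x hx
    let M : ModuleCat.{u} (CommRingCat.of R) := ModuleCat.of R P
    let f : ModuleCat.of R R ⟶ M := ModuleCat.ofHom (LinearMap.toSpanSingleton R P x)
    have h1 : (toDD (R := R) (S := S)).map (X := (ModuleCat.of R R : ModuleCat.{u} (CommRingCat.of R))) (Y := M) f =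
        (toDD (R := R) (S := S)).map (X := (ModuleCat.of R R : ModuleCat.{u} (CommRingCat.of R))) (Y := M) (ModuleCat.ofHom (0 : R →ₗ[R] P) : ModuleCat.of R R ⟶ M) := by
      refine Pseudofunctor.DescentData.hom_ext fun i => ?_
      cases i
      refine ModuleCat.hom_ext (LinearMap.ext fun z => ?_)
      show ((ModuleCat.extendScalars (η R S).unop.hom).map f).hom z =
        ((ModuleCat.extendScalars (η R S).unop.hom).map (ModuleCat.ofHom (0 : R →ₗ[R] P) : ModuleCat.of R R ⟶ M)).hom z
      induction z using E_induction (η R S) (ModuleCat.of R R : ModuleCat.{u} (CommRingCat.of R)) with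
      | h0 => rw [map_zero, map_zero]
      | hadd y z hy hz => rw [map_add, map_add, hy, hz]
      | ht s m =>
        rw [map_smul, map_smul]
        congr 1
        show one (η R S) M (m • x) = one (η R S) M 0
        have hk : kmap (S := S) P ((1 : S) ⊗ₜ x) = one (η R S) M x := by
          show (1 : S) • one (η R S) M x = _
          rw [one_smul]
        rw [one_zero, one_smul', ← hk, hx, map_zero, smul_zero]
    have := congr(($(h.map_injective h1)).hom (1 : R))
    exact (one_smul R x).symm.trans this
  have hmk' : ∀ y : P ⊗[R] R, (Algebra.linearMap R S).lTensor P y = 0 → y = 0 := by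
    intro y hy
    obtain ⟨x, rfl⟩ := (TensorProduct.rid R P).symm.surjective y
    have hx := congrArg (TensorProduct.comm R P S) hy
    rw [TensorProduct.rid_symm_apply, LinearMap.lTensor_tmul, TensorProduct.comm_tmul, map_zero,
      Algebra.linearMap_apply, map_one] at hx
    rw [hmk x hx, map_zero]
  exact (injective_iff_map_eq_zero _).2 hmk'

end GrothLib.RingDesc
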