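import Mathlib
import Groth.Agent.Lib.RingDesc.Canon

/-!
# Full faithfulness of descent for modules over the values of a ring functor
-/

set_option autoImplicit false

universe u

namespace GrothLib.RingDesc.Functorial

open scoped ChangeOfRings
open TensorProduct CategoryTheory Opposite GrothLib.RingDesc

set_option backward.isDefEq.respectTransparency false

theorem comp_toPseudofunctor_mapComp'.{v₁, w₁, v₂, w₂} {C : Type w₁} [Category.{v₁} C] {D : Type w₂}
    [Category.{v₂} D]
    {B : Type*} [Bicategory B] (F : C ⥤ D) (Q : Pseudofunctor (LocallyDiscrete D) B)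
    {X Y Z : C} (f : X ⟶ Y) (g : Y ⟶ Z) (fg : X ⟶ Z) (h : f ≫ g = fg) :
    (F.toPseudofunctor.comp Q).mapComp' f.toLoc g.toLoc fg.toLoc (by subst h; rfl) =
      Q.mapComp' (F.map f).toLoc (F.map g).toLoc (F.map fg).toLoc
        (by rw [← Quiver.Hom.comp_toLoc, ← F.map_comp, h]) := by
  subst h
  apply Iso.ext
  simp only [Pseudofunctor.mapComp', Iso.trans_hom, PrelaxFunctor.map₂Iso_hom,
    Pseudofunctor.comp, PrelaxFunctor.comp]
  show Q.map₂ _ ≫ Q.map₂ _ ≫ _ = Q.map₂ _ ≫ _
  refine (Category.assoc _ _ _).symm.trans ?_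
  refine congrArg (· ≫ _) ?_
  refine (Q.map₂_comp _ _).symm.trans (congrArg Q.map₂ ?_)
  exact Subsingleton.elim _ _

theorem ext_mapComp'_hom_one {A B C : CommRingCat.{u}} (a : A ⟶ B) (b : B ⟶ C) (c : A ⟶ C)
    (h : a ≫ b = c) (M : ModuleCat.{u} A) (m : M) :
    ((CommRingCat.moduleCatExtendScalarsPseudofunctor.{u}.mapComp' a.toLoc b.toLoc c.toLoc
      (by subst h; rfl)).hom.toNatTrans.app M).hom (one c.op M m) =
      one b.op (E a.op M) (one a.op M m) := by
  subst h
  have e : CommRingCat.moduleCatExtendScalarsPseudofunctor.{u}.mapComp' a.toLoc b.toLoc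
      (a ≫ b).toLoc rfl = _ :=
    Pseudofunctor.mapComp'_eq_mapComp CommRingCat.moduleCatExtendScalarsPseudofunctor.{u} a.toLoc b.toLoc
  exact (congrArg (fun k => (k.hom.toNatTrans.app M).hom (one (a ≫ b).op M m)) e).trans
      (ModuleCat.extendScalarsComp_hom_app_one_tmul a.hom b.hom M m)

theorem comp_hom_one.{v₁, w₁} {C : Type w₁} [Category.{v₁} C] (G : C ⥤ CommRingCat.{u})
    {X Y Z : C} (f : X ⟶ Y) (g : Y ⟶ Z) (fg : X ⟶ Z) (h : f ≫ g = fg) (M : ModuleCat.{u} (G.obj X))
    (m : M) :
    (((G.toPseudofunctor.comp CommRingCat.moduleCatExtendScalarsPseudofunctor.{u}).mapComp'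
        f.toLoc g.toLoc fg.toLoc (by subst h; rfl)).hom.toNatTrans.app M).hom
        (one (G.map fg).op M m) =
      one (G.map g).op (E (G.map f).op M) (one (G.map f).op M m) := by
  rw [comp_toPseudofunctor_mapComp' G CommRingCat.moduleCatExtendScalarsPseudofunctor.{u} f g fg h]
  exact ext_mapComp'_hom_one (G.map f) (G.map g) (G.map fg) (by rw [← h, G.map_comp]) M m

theorem comp_inv_one.{v₁, w₁} {C : Type w₁} [Category.{v₁} C] (G : C ⥤ CommRingCat.{u})
    {X Y Z : C} (f : X ⟶ Y) (g : Y ⟶ Z) (fg : X ⟶ Z) (h : f ≫ g = fg) (M : ModuleCat.{u} (G.obj X))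
    (m : M) :
    (((G.toPseudofunctor.comp CommRingCat.moduleCatExtendScalarsPseudofunctor.{u}).mapComp'
        f.toLoc g.toLoc fg.toLoc (by subst h; rfl)).inv.toNatTrans.app M).hom
        (one (G.map g).op (E (G.map f).op M) (one (G.map f).op M m)) =
      one (G.map fg).op M m := by
  rw [← comp_hom_one G f g fg h M m]
  have := Cat.Hom.hom_inv_id_toNatTrans_app
    ((G.toPseudofunctor.comp CommRingCat.moduleCatExtendScalarsPseudofunctor.{u}).mapComp'
      f.toLoc g.toLoc fg.toLoc (by subst h; rfl)) M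
  exact congr($(congrArg ModuleCat.Hom.hom this) (one (G.map fg).op M m))

theorem toDD_hom.{v₁, w₁} {C : Type w₁} [Category.{v₁} C]
    (P : Pseudofunctor (LocallyDiscrete Cᵒᵖ) Cat.{u, u + 1}) {X X₀ Y : C} (f : X ⟶ X₀)
    (M : P.obj ⟨op X₀⟩) (q : Y ⟶ X₀) (a b : Y ⟶ X) (ha : a ≫ f = q) (hb : b ≫ f = q) :
    (((P.toDescentData (fun _ : PUnit.{u + 1} => f)).obj M).hom (i₁ := PUnit.unit) (i₂ := PUnit.unit)
      q a b ha hb) =
    (P.mapComp' f.op.toLoc a.op.toLoc q.op.toLoc (by subst ha; rfl)).inv.toNatTrans.app M ≫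
      (P.mapComp' f.op.toLoc b.op.toLoc q.op.toLoc (by subst hb; rfl)).hom.toNatTrans.app M :=
  Pseudofunctor.DescentData.ofObj_hom _ _ _ _ _ _ _ _ _

/-- The canonical descent datum fixes `1 ⊗ (1 ⊗ m)`. -/
theorem can_fixed.{v₁, w₁} {C : Type w₁} [Category.{v₁} C] (G : Cᵒᵖ ⥤ CommRingCat.{u})
    {X X₀ Y : C} (f : X ⟶ X₀) (M : ModuleCat.{u} (G.obj (op X₀))) (q : Y ⟶ X₀) (a b : Y ⟶ X)
    (ha : a ≫ f = q) (hb : b ≫ f = q) (m : M) :
    ((((G.toPseudofunctor.comp CommRingCat.moduleCatExtendScalarsPseudofunctor.{u}).toDescentData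
      (fun _ : PUnit.{u + 1} => f)).obj M).hom (i₁ := PUnit.unit) (i₂ := PUnit.unit) q a b ha hb).hom
        (one (G.map a.op).op (E (G.map f.op).op M) (one (G.map f.op).op M m)) =
      one (G.map b.op).op (E (G.map f.op).op M) (one (G.map f.op).op M m) := by
  rw [toDD_hom (G.toPseudofunctor.comp CommRingCat.moduleCatExtendScalarsPseudofunctor.{u}) f M q a b
    ha hb]
  exact comp_elt _ _ (comp_inv_one G f.op a.op q.op (by rw [← op_comp, ha]) M m)
    (comp_hom_one G f.op b.op q.op (by rw [← op_comp, hb]) M m)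

section

variable {X₀ X₁ : CommRingCat.{u}ᵒᵖ}

/-- The extension of a functional. -/
noncomputable def func (f : X₁ ⟶ X₀) (N : ModuleCat.{u} X₀.unop) (α : N →ₗ[X₀.unop] X₀.unop) :
    E f N →ₗ[X₁.unop] X₁.unop :=
  letI := f.unop.hom.toAlgebra
  LinearMap.liftBaseChange X₁.unop ((Algebra.linearMap X₀.unop X₁.unop).comp α)

theorem func_one (f : X₁ ⟶ X₀) (N : ModuleCat.{u} X₀.unop) (α : N →ₗ[X₀.unop] X₀.unop) (x : N) :
    func f N α (one f N x) = f.unop.hom (α x) :=
  letI := f.unop.hom.toAlgebra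
  (LinearMap.liftBaseChange_tmul _ _ _ _).trans (one_smul _ _)

theorem sum_func (f : X₁ ⟶ X₀) (N : ModuleCat.{u} X₀.unop) {m : ℕ}
    (π : (Fin m → X₀.unop) →ₗ[X₀.unop] N) (i : N →ₗ[X₀.unop] Fin m → X₀.unop)
    (hπi : π.comp i = LinearMap.id) (y : E f N) :
    ∑ j, func f N ((LinearMap.proj j).comp i) y • one f N (π (Pi.single j 1)) = y := by
  induction y using E_induction f N with
  | h0 => simp
  | hadd y z hy hz => simp only [map_add, add_smul, Finset.sum_add_distrib, hy, hz]
  | ht t x =>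
    simp only [map_smul, func_one, smul_eq_mul, mul_smul, ← Finset.smul_sum]
    congr 1
    simp only [← one_smul' f N, LinearMap.comp_apply, LinearMap.proj_apply]
    have h : ∑ j, i x j • π (Pi.single j 1) = x := by
      simp only [← map_smul, ← map_sum]
      rw [← pi_eq_sum_univ' (i x)]
      exact LinearMap.congr_fun hπi x
    conv_rhs => rw [← h]
    exact (map_sum (AddMonoidHom.mk' (one f N) (one_add f N)) _ _).symm

end

theorem exists_of_tmul_one_eq {R S : Type u} [CommRing R] [CommRing S] [Algebra R S]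
    [Module.FaithfullyFlat R S] (s : S) (h : (s ⊗ₜ[R] (1 : S)) = (1 : S) ⊗ₜ[R] s) :
    ∃ r, algebraMap R S r = s := by
  let Q := S ⧸ LinearMap.range (Algebra.linearMap R S)
  have h2 : (1 : S) ⊗ₜ[R] (Submodule.Quotient.mk s : Q) = 0 := by
    have := congrArg ((LinearMap.range (Algebra.linearMap R S)).mkQ.lTensor S) h
    simp only [LinearMap.lTensor_tmul, Submodule.mkQ_apply] at this
    rw [← this, (Submodule.Quotient.mk_eq_zero _).mpr (LinearMap.mem_range.mpr ⟨1, (Algebra.linearMap_apply R S 1).trans (map_one _)⟩), TensorProduct.tmul_zero]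
  rw [Module.FaithfullyFlat.one_tmul_eq_zero_iff, Submodule.Quotient.mk_eq_zero] at h2
  exact h2

theorem bijective_map.{v₁, w₁} {C : Type w₁} [Category.{v₁} C] (G : Cᵒᵖ ⥤ CommRingCat.{u})
    {X X₀ Y : C} (f : X ⟶ X₀) (a b : Y ⟶ X) (hab : a ≫ f = b ≫ f)
    (hmapinj : Function.Injective (G.map f.op).hom)
    (heq : ∀ z : G.obj (op X), (G.map a.op).hom z = (G.map b.op).hom z →
      ∃ r, (G.map f.op).hom r = z)
    (M N : ModuleCat.{u} (G.obj (op X₀)))
    {m : ℕ} (π : (Fin m → G.obj (op X₀)) →ₗ[G.obj (op X₀)] N)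
    (i : N →ₗ[G.obj (op X₀)] Fin m → G.obj (op X₀))
    (hπi : π.comp i = LinearMap.id) :
    Function.Bijective (fun φ : M ⟶ N =>
      ((G.toPseudofunctor.comp CommRingCat.moduleCatExtendScalarsPseudofunctor.{u}).toDescentData
        (fun _ : PUnit.{u + 1} => f)).map φ) := by
  classical
  let e₀ := (G.map f.op).op
  let wa := (G.map a.op).op
  let wb := (G.map b.op).op
  let c : Fin m → (E e₀ N →ₗ[G.obj (op X)] G.obj (op X)) :=
    fun j => func e₀ N ((LinearMap.proj j).comp i)
  have hinj : Function.Injective (one e₀ N) := by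
    intro x y hxy
    have e : ∀ z, π (i z) = z := fun z => LinearMap.congr_fun hπi z
    rw [← e x, ← e y]
    refine congrArg π (funext fun j => hmapinj ?_)
    have h1 := congrArg (c j) hxy
    simp only [c] at h1
    erw [func_one, func_one] at h1
    exact h1
  refine ⟨fun φ φ' h => ?_, fun g => ?_⟩
  · refine ModuleCat.hom_ext (LinearMap.ext fun x => hinj ?_)
    exact congr(($(congrArg (fun k => Pseudofunctor.DescentData.Hom.hom k PUnit.unit) h)).hom
        (one e₀ M x))
  · -- coordinates of the image of a fixed element descend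
    have hdesc : ∀ x : M, ∃ x' : N, one e₀ N x' = (g.hom PUnit.unit).hom (one e₀ M x) := by
      intro x
      let h₁ : E e₀ M ⟶ E e₀ N := g.hom PUnit.unit
      let y : E e₀ N := h₁.hom (one e₀ M x)
      let D₁ := ((G.toPseudofunctor.comp CommRingCat.moduleCatExtendScalarsPseudofunctor.{u}).toDescentData
        (fun _ : PUnit.{u + 1} => f)).obj M
      let D₂ := ((G.toPseudofunctor.comp CommRingCat.moduleCatExtendScalarsPseudofunctor.{u}).toDescentData
        (fun _ : PUnit.{u + 1} => f)).obj N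
      let φ₁ : E wa (E e₀ M) →ₗ[_] E wb (E e₀ M) :=
        (D₁.hom (i₁ := PUnit.unit) (i₂ := PUnit.unit) (a ≫ f) a b rfl hab.symm).hom
      let φ₂ : E wa (E e₀ N) →ₗ[_] E wb (E e₀ N) :=
        (D₂.hom (i₁ := PUnit.unit) (i₂ := PUnit.unit) (a ≫ f) a b rfl hab.symm).hom
      have hcan₁ : ∀ v, φ₁ (one wa _ (one e₀ M v)) = one wb _ (one e₀ M v) :=
        fun v => can_fixed G f M (a ≫ f) a b rfl hab.symm v
      have hcan₂ : ∀ v, φ₂ (one wa _ (one e₀ N v)) = one wb _ (one e₀ N v) :=
        fun v => can_fixed G f N (a ≫ f) a b rfl hab.symm v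
      have hcomm : ∀ z : E e₀ M, φ₂ (one wa (E e₀ N) (h₁.hom z)) =
          ((ModuleCat.extendScalars wb.unop.hom).map h₁).hom (φ₁ (one wa _ z)) := fun z =>
        congr(($(g.comm (i₁ := PUnit.unit) (i₂ := PUnit.unit) (a ≫ f) a b rfl hab.symm)).hom
          (one wa _ z))
      have hy : φ₂ (one wa _ y) = one wb (E e₀ N) y := by
        refine (hcomm _).trans ?_
        rw [hcan₁]
        exact map_one_elt wb h₁ _
      have hη : ∀ r, wb.unop.hom (e₀.unop.hom r) = wa.unop.hom (e₀.unop.hom r) := by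
        intro r
        have e := congrArg (fun k => (G.map k.op).hom r) hab
        simpa [e₀, wa, wb] using e.symm
      have hc : ∀ j, wa.unop.hom (c j y) = wb.unop.hom (c j y) := by
        intro j
        have key : ∀ z, func wb (E e₀ N) (c j) (φ₂ (one wa _ z)) = wa.unop.hom (c j z) := by
          intro z
          induction z using E_induction e₀ N with
          | h0 => rw [one_zero, map_zero, map_zero, map_zero, map_zero]
          | hadd z z' hz hz' => rw [one_add, map_add, map_add, map_add, hz, hz', map_add]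
          | ht t v =>
            rw [one_smul', map_smul, hcan₂, map_smul, map_smul, smul_eq_mul, smul_eq_mul, map_mul,
              func_one]
            simp only [c]
            erw [func_one]
            exact congrArg _ (hη _)
        rw [← key y, hy, func_one]
      choose r hr using fun j => heq (c j y) (hc j)
      refine ⟨π r, ?_⟩
      show _ = y
      conv_rhs => rw [← sum_func e₀ N π i hπi y]
      have h : π r = ∑ j, r j • π (Pi.single j 1) := by
        simp only [← map_smul, ← map_sum]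
        rw [← pi_eq_sum_univ' r]
      rw [h]
      refine (map_sum (AddMonoidHom.mk' (one e₀ N) (one_add e₀ N)) _ _).trans ?_
      refine Finset.sum_congr rfl fun j _ => ?_
      refine (one_smul' e₀ N (r j) _).trans ?_
      exact congrArg (· • _) (hr j)
    choose φ hφ using hdesc
    let φ' : M ⟶ N := ModuleCat.ofHom
      { toFun := φ
        map_add' := fun x x' => hinj (by
          refine (hφ _).trans ?_
          refine ((congrArg _ (one_add e₀ M x x')).trans (map_add _ _ _)).trans ?_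
          exact ((one_add e₀ N _ _).trans (congrArg₂ (· + ·) (hφ x) (hφ x'))).symm)
        map_smul' := fun r x => hinj (by
          refine (hφ _).trans ?_
          refine ((congrArg _ (one_smul' e₀ M r x)).trans (map_smul _ _ _)).trans ?_
          exact ((one_smul' e₀ N r (φ x)).trans (congrArg _ (hφ x))).symm) }
    refine ⟨φ', Pseudofunctor.DescentData.hom_ext fun i => ?_⟩
    cases i
    exact map_eq_of_agree e₀ φ' _ hφ

end GrothLib.RingDesc.Functorial
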