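import Groth.Agent.Lib.RingDesc.Bridge

/-!
# Descent of modules is an equivalence exactly for universally injective maps
-/

set_option autoImplicit false
set_option backward.isDefEq.respectTransparency false
universe u

open CategoryTheory Opposite TensorProduct
open scoped ChangeOfRings

namespace GrothLib.RingDesc

variable {R S : Type u} [CommRing R] [CommRing S] [Algebra R S]

/-- The functor to descent data. -/
noncomputable abbrev toDD :=
  Desc.ringModPF.{u}.toDescentData (fun _ : PUnit.{u + 1} => η R S)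

theorem comp_elt {T : Type u} [CommRing T] {A B C : ModuleCat.{u} T} (u₁ : A ⟶ B) (v : B ⟶ C) {x : A} {y : B} {z : C}
    (hu : u₁.hom x = y) (hv : v.hom y = z) : (u₁ ≫ v).hom x = z := by
  subst hu hv
  rfl

/-- Composition isomorphism, forwards. -/
noncomputable def cHom {X₀ X₁ X₂ : CommRingCat.{u}ᵒᵖ} (e : X₁ ⟶ X₀) (a : X₂ ⟶ X₁) (q : X₂ ⟶ X₀) (ha : a ≫ e = q)
    (M : ModuleCat.{u} X₀.unop) : E q M ⟶ E a (E e M) :=
  (Desc.ringModPF.{u}.mapComp' e.op.toLoc a.op.toLoc q.op.toLoc (by subst ha; rfl)).hom.toNatTrans.app M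

/-- Composition isomorphism, backwards. -/
noncomputable def cInv {X₀ X₁ X₂ : CommRingCat.{u}ᵒᵖ} (e : X₁ ⟶ X₀) (a : X₂ ⟶ X₁) (q : X₂ ⟶ X₀) (ha : a ≫ e = q)
    (M : ModuleCat.{u} X₀.unop) : E a (E e M) ⟶ E q M :=
  (Desc.ringModPF.{u}.mapComp' e.op.toLoc a.op.toLoc q.op.toLoc (by subst ha; rfl)).inv.toNatTrans.app M

theorem cHom_one {X₀ X₁ X₂ : CommRingCat.{u}ᵒᵖ} (e : X₁ ⟶ X₀) (a : X₂ ⟶ X₁) (q : X₂ ⟶ X₀) (ha : a ≫ e = q)
    (M : ModuleCat.{u} X₀.unop) (m : M) :
    (cHom e a q ha M).hom (one q M m) = one a (E e M) (one e M m) := mapComp'_hom_one e a q ha M m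

theorem cInv_one {X₀ X₁ X₂ : CommRingCat.{u}ᵒᵖ} (e : X₁ ⟶ X₀) (a : X₂ ⟶ X₁) (q : X₂ ⟶ X₀) (ha : a ≫ e = q)
    (M : ModuleCat.{u} X₀.unop) (m : M) :
    (cInv e a q ha M).hom (one a (E e M) (one e M m)) = one q M m := mapComp'_inv_one e a q ha M m

theorem inv_hom_one {X₀ X₁ X₂ : CommRingCat.{u}ᵒᵖ} (e : X₁ ⟶ X₀) (a b : X₂ ⟶ X₁) (q : X₂ ⟶ X₀) (ha : a ≫ e = q)
    (hb : b ≫ e = q) (M : ModuleCat.{u} X₀.unop) (m : M) :
    (cInv e a q ha M ≫ cHom e b q hb M).hom (one a (E e M) (one e M m)) = one b (E e M) (one e M m) :=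
  comp_elt _ _ (cInv_one e a q ha M m) (cHom_one e b q hb M m)

/-- The canonical descent datum fixes `1 ⊗ (1 ⊗ m)`. -/
theorem φ_can (M : ModuleCat.{u} (CommRingCat.of R)) {Y : CommRingCat.{u}ᵒᵖ} (a b : Y ⟶ op (CommRingCat.of S))
    (hab : a ≫ η R S = b ≫ η R S) (m : M) :
    φ ((toDD (R := R) (S := S)).obj M) a b hab (one a (ob ((toDD (R := R) (S := S)).obj M)) (one (η R S) M m)) =
      one b (ob ((toDD (R := R) (S := S)).obj M)) (one (η R S) M m) := by
  have e : ((toDD (R := R) (S := S)).obj M).hom (i₁ := PUnit.unit) (i₂ := PUnit.unit) (a ≫ η R S) a b rfl hab.symm =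
      cInv (η R S) a (a ≫ η R S) rfl M ≫ cHom (η R S) b (a ≫ η R S) hab.symm M :=
    Pseudofunctor.DescentData.ofObj_hom _ _ _ _ _ _ _ _ _
  unfold φ
  refine (congrArg (fun k => k.hom (one a (E (η R S) M) (one (η R S) M m))) e).trans ?_
  exact inv_hom_one (η R S) a b (a ≫ η R S) rfl hab.symm M m

/-- Linear maps out of a double extension of scalars. -/
theorem ext_one {X₀ X₁ X₂ : CommRingCat.{u}ᵒᵖ} (e : X₁ ⟶ X₀) (a : X₂ ⟶ X₁) (M : ModuleCat.{u} X₀.unop)
    {P : ModuleCat.{u} X₂.unop} (u₁ u₂ : E a (E e M) →ₗ[X₂.unop] P)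
    (h : ∀ m, u₁ (one a (E e M) (one e M m)) = u₂ (one a (E e M) (one e M m))) : u₁ = u₂ := by
  refine LinearMap.ext fun z => ?_
  induction z using E_induction a (E e M) with
  | h0 => rw [map_zero, map_zero]
  | hadd y z hy hz => rw [map_add, map_add, hy, hz]
  | ht t w =>
    rw [map_smul, map_smul]
    congr 1
    induction w using E_induction e M with
    | h0 => rw [one_zero, map_zero, map_zero]
    | hadd y z hy hz => rw [one_add, map_add, map_add, hy, hz]
    | ht s m => rw [one_smul', map_smul, map_smul, h]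

/-- `s ⊗ m ↦ s ⊗ m`. -/
noncomputable def kmap (P : Type u) [AddCommGroup P] [Module R P] :
    S ⊗[R] P →+ E (η R S) (ModuleCat.of R P) :=
  TensorProduct.liftAddHom
    (AddMonoidHom.mk' (fun s : S => AddMonoidHom.mk' (fun m : P => s • one (η R S) (ModuleCat.of R P) m)
      fun m m' => by
        show s • one (η R S) (ModuleCat.of R P) (m + m') = _
        exact (congrArg (s • ·) (one_add (η R S) (ModuleCat.of R P) m m')).trans (smul_add _ _ _))
      fun s s' => AddMonoidHom.ext fun m => by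
        show (s + s') • one (η R S) (ModuleCat.of R P) m =
          s • one (η R S) (ModuleCat.of R P) m + s' • one (η R S) (ModuleCat.of R P) m
        rw [add_smul])
    fun r s m => by
      show (r • s) • one (η R S) (ModuleCat.of R P) m = s • one (η R S) (ModuleCat.of R P) (r • m)
      refine Eq.trans ?_ (congrArg (s • ·) (one_smul' (η R S) (ModuleCat.of R P) r m)).symm
      rw [Algebra.smul_def, mul_comm, mul_smul]
      rfl

theorem kmap_surjective (P : Type u) [AddCommGroup P] [Module R P] :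
    Function.Surjective (kmap (R := R) (S := S) P) := by
  intro z
  induction z using E_induction (η R S) (ModuleCat.of R P : ModuleCat.{u} (CommRingCat.of R)) with
  | h0 => exact ⟨0, map_zero _⟩
  | hadd y z hy hz =>
    obtain ⟨y', rfl⟩ := hy
    obtain ⟨z', rfl⟩ := hz
    exact ⟨y' + z', map_add _ _ _⟩
  | ht s m => exact ⟨s ⊗ₜ m, rfl⟩

theorem one_injective (hinj : Pi1.UnivInjective R S) (P : Type u) [AddCommGroup P] [Module R P] :
    Function.Injective (one (η R S) (ModuleCat.of R P)) := by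
  let f : S →+ P →+ S ⊗[R] P :=
    AddMonoidHom.mk' (fun s : S => AddMonoidHom.mk' (fun m : P => (s ⊗ₜ[R] m : S ⊗[R] P))
      fun m m' => TensorProduct.tmul_add _ _ _)
      fun s s' => AddMonoidHom.ext fun m => TensorProduct.add_tmul _ _ _
  have hf : ∀ (r : R) (s : S) (m : P), f (algebraMap R S r * s) m = f s (r • m) := fun r s m => by
    show ((algebraMap R S r * s) ⊗ₜ[R] m : S ⊗[R] P) = s ⊗ₜ[R] (r • m)
    rw [← Algebra.smul_def, TensorProduct.smul_tmul]
  let back : E (η R S) (ModuleCat.of R P) →+ S ⊗[R] P :=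
    letI := (η R S).unop.hom.toAlgebra
    TensorProduct.liftAddHom f hf
  intro x y h
  exact mk_one_injective hinj P (congrArg back h : _)

theorem essSurj (hinj : Pi1.UnivInjective R S) (D : DD R S) :
    ∃ M : ModuleCat.{u} R, Nonempty ((toDD (R := R) (S := S)).obj M ≅ D) := by
  letI := modR D
  haveI : IsScalarTower R S (ob D) := IsScalarTower.of_algebraMap_smul fun _ _ => rfl
  set M := LinearMap.ker (delta (rho D))
  have hθ := bijective_of_coaction hinj (rho D) (rho_counit D) (rho_coassoc D)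
  let M' : ModuleCat.{u} (CommRingCat.of R) := ModuleCat.of R M
  refine ⟨M', ?_⟩
  let i : M' ⟶ (ModuleCat.restrictScalars (η R S).unop.hom).obj (ob D) :=
    ModuleCat.ofHom (Y := (ModuleCat.restrictScalars (η R S).unop.hom).obj (ob D))
      { toFun := fun m => (m.1 : ob D)
        map_add' := fun _ _ => rfl
        map_smul' := fun _ _ => rfl }
  let e : E (η R S) M' ⟶ ob D :=
    ((ModuleCat.extendRestrictScalarsAdj (η R S).unop.hom).homEquiv M' (ob D)).symm i
  have he : ∀ m : M, e.hom (one (η R S) M' m) = (m : ob D) := fun m => one_smul _ _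
  have hek : ∀ z, e.hom (kmap M z) = LinearMap.liftBaseChange S M.subtype z := fun z => by
    induction z using TensorProduct.induction_on with
    | zero => simp
    | add y z hy hz => simp only [map_add, hy, hz]
    | tmul s m =>
      rw [LinearMap.liftBaseChange_tmul]
      show e.hom (s • one (η R S) M' m) = s • (m : ob D)
      rw [map_smul, he]
  have hbij : Function.Bijective e.hom := by
    refine ⟨fun x y h => ?_, fun n => ?_⟩
    · obtain ⟨x', rfl⟩ := kmap_surjective (R := R) (S := S) M x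
      obtain ⟨y', rfl⟩ := kmap_surjective (R := R) (S := S) M y
      rw [hek, hek] at h
      rw [hθ.1 h]
    · obtain ⟨z, rfl⟩ := hθ.2 n
      exact ⟨_, hek z⟩
  haveI : IsIso e := (ConcreteCategory.isIso_iff_bijective e).2 hbij
  refine ⟨Pseudofunctor.DescentData.isoMk (fun _ => asIso e) ?_⟩
  intro Y q i₁ i₂ a b ha hb
  cases i₁
  cases i₂
  subst ha
  refine ModuleCat.hom_ext (ext_one (η R S) a M' _ _ fun m => ?_)
  show φ D a b hb.symm (((ModuleCat.extendScalars a.unop.hom).map e).hom (one a _ (one (η R S) M' m))) =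
    ((ModuleCat.extendScalars b.unop.hom).map e).hom
      (φ ((toDD (R := R) (S := S)).obj M') a b hb.symm (one a _ (one (η R S) M' m)))
  refine Eq.trans ?_ (congrArg _ (φ_can M' a b hb.symm m)).symm
  show φ D a b hb.symm (one a (ob D) (e.hom (one (η R S) M' m))) = one b (ob D) (e.hom (one (η R S) M' m))
  rw [he, φ_one, mem_ker_delta.1 m.2, G_tmul, map_one, one_smul]

theorem map_one_elt {X₀ X₁ : CommRingCat.{u}ᵒᵖ} (a : X₁ ⟶ X₀) {M N : ModuleCat.{u} X₀.unop} (h : M ⟶ N) (y : M) :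
    ((ModuleCat.extendScalars a.unop.hom).map h).hom (one a M y) = one a N (h.hom y) := rfl

theorem φ_map {D₁ D₂ : DD R S} (g : D₁ ⟶ D₂) (h : ob D₁ ⟶ ob D₂) (hh : h = g.hom PUnit.unit)
    {Y : CommRingCat.{u}ᵒᵖ} (a b : Y ⟶ op (CommRingCat.of S)) (hab : a ≫ η R S = b ≫ η R S) (y : ob D₁) :
    φ D₂ a b hab (one a (ob D₂) (h.hom y)) =
      ((ModuleCat.extendScalars b.unop.hom).map h).hom (φ D₁ a b hab (one a (ob D₁) y)) := by
  subst hh
  exact congr(($(g.comm (i₁ := PUnit.unit) (i₂ := PUnit.unit) (a ≫ η R S) a b rfl hab.symm)).hom (one a (ob D₁) y))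

/-- Fixed elements lie in the descended module. -/
theorem mem_ker_of_fixed (D : DD R S) [Module R (ob D)] [IsScalarTower R S (ob D)] (y : ob D)
    (hy : φ D p₁ p₂ p_eq (one p₁ (ob D) y) = one p₂ (ob D) y) : y ∈ LinearMap.ker (delta (rho D)) := by
  rw [mem_ker_delta]
  show e2 D _ = _
  rw [hy, ← e2_G D ((1 : S) ⊗ₜ y), G_tmul, map_one, one_smul]

/-- A module generating a descended module fills it. -/
theorem surjective_ker (hinj : Pi1.UnivInjective R S) (D : DD R S) [Module R (ob D)] [IsScalarTower R S (ob D)]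
    (P : Type u) [AddCommGroup P] [Module R P] (ι₂ : P →ₗ[R] LinearMap.ker (delta (rho D)))
    (hgen : Function.Surjective fun z : S ⊗[R] P =>
      LinearMap.liftBaseChange S (LinearMap.ker (delta (rho D))).subtype (ι₂.lTensor S z)) :
    Function.Surjective ι₂ := by
  have hθ := bijective_of_coaction hinj (rho D) (rho_counit D) (rho_coassoc D)
  intro x
  rw [← LinearMap.mem_range, ← Submodule.Quotient.mk_eq_zero]
  refine mk_one_injective hinj _ ?_
  obtain ⟨z, hz⟩ := hgen (LinearMap.liftBaseChange S (LinearMap.ker (delta (rho D))).subtype ((1 : S) ⊗ₜ x))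
  have hw : ι₂.lTensor S z = (1 : S) ⊗ₜ x := hθ.1 hz
  rw [map_zero]
  show (LinearMap.range ι₂).mkQ.lTensor S ((1 : S) ⊗ₜ x) = 0
  rw [← hw, ← LinearMap.comp_apply, ← LinearMap.lTensor_comp, LinearMap.range_mkQ_comp,
    LinearMap.lTensor_zero, LinearMap.zero_apply]

/-- Fixed elements come from a generating module of fixed elements. -/
theorem exists_of_fixed (hinj : Pi1.UnivInjective R S) (D : DD R S) [Module R (ob D)] [IsScalarTower R S (ob D)]
    (P : Type u) [AddCommGroup P] [Module R P] (j : P →ₗ[R] (ob D))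
    (hj : ∀ m, φ D p₁ p₂ p_eq (one p₁ (ob D) (j m)) = one p₂ (ob D) (j m))
    (hgen : Function.Surjective (LinearMap.liftBaseChange S j)) (y : ob D)
    (hy : φ D p₁ p₂ p_eq (one p₁ (ob D) y) = one p₂ (ob D) y) : ∃ x, j x = y := by
  let ι₂ : P →ₗ[R] LinearMap.ker (delta (rho D)) := j.codRestrict _ fun m => mem_ker_of_fixed D _ (hj m)
  have hι : Function.Surjective ι₂ := by
    refine surjective_ker hinj D P ι₂ fun z => ?_
    obtain ⟨w, rfl⟩ := hgen z
    refine ⟨w, ?_⟩
    induction w using TensorProduct.induction_on with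
    | zero => simp only [map_zero]
    | add y z hy hz =>
      simp only [map_add] at hy hz ⊢
      rw [hy, hz]
    | tmul s m => rfl
  obtain ⟨x, hx⟩ := hι ⟨y, mem_ker_of_fixed D _ hy⟩
  exact ⟨x, congrArg Subtype.val hx⟩

/-- Fixed elements come from a generating set of fixed elements (bundled form). -/
theorem exists_of_fixed' (hinj : Pi1.UnivInjective R S) (D : DD R S) (P : Type u) [AddCommGroup P] [Module R P]
    (j : P → ob D) (hadd : ∀ x y, j (x + y) = j x + j y)
    (hsmul : ∀ (r : R) x, j (r • x) = (η R S).unop.hom r • j x)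
    (hj : ∀ m, φ D p₁ p₂ p_eq (one p₁ (ob D) (j m)) = one p₂ (ob D) (j m))
    (hgen : ∀ y : ob D, y ∈ Submodule.span S (Set.range j)) (y : ob D)
    (hy : φ D p₁ p₂ p_eq (one p₁ (ob D) y) = one p₂ (ob D) y) : ∃ x, j x = y := by
  letI := modR D
  haveI : IsScalarTower R S (ob D) := IsScalarTower.of_algebraMap_smul fun _ _ => rfl
  let jl : P →ₗ[R] (ob D) := { toFun := j, map_add' := hadd, map_smul' := hsmul }
  have hsub : Set.range j ⊆ LinearMap.range (LinearMap.liftBaseChange S jl) := by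
    rintro _ ⟨m, rfl⟩
    exact ⟨(1 : S) ⊗ₜ m, (LinearMap.liftBaseChange_tmul _ _ _ _).trans (one_smul _ _)⟩
  obtain ⟨x, hx⟩ := exists_of_fixed hinj D P jl hj
    (fun z => Submodule.span_le.2 hsub (hgen z)) y hy
  exact ⟨x, hx⟩

/-- Morphisms of descent data keep fixed elements fixed. -/
theorem fixed_map {D₁ D₂ : DD R S} (g : D₁ ⟶ D₂) (y : ob D₁)
    (hy : φ D₁ p₁ p₂ p_eq (one p₁ (ob D₁) y) = one p₂ (ob D₁) y) :
    φ D₂ p₁ p₂ p_eq (one p₁ (ob D₂) ((g.hom PUnit.unit).hom y)) =
      one p₂ (ob D₂) ((g.hom PUnit.unit).hom y) := by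
  refine (φ_map g (g.hom PUnit.unit) rfl p₁ p₂ p_eq y).trans ?_
  refine (congrArg _ hy).trans ?_
  exact map_one_elt p₂ (M := ob D₁) (N := ob D₂) (g.hom PUnit.unit) y

theorem mem_span_one {X₀ : CommRingCat.{u}ᵒᵖ} (e : op (CommRingCat.of S) ⟶ X₀) (M : ModuleCat.{u} X₀.unop) (y : E e M) :
    y ∈ Submodule.span S (Set.range (one e M)) := by
  induction y using E_induction e M with
  | h0 => exact zero_mem _
  | hadd y z hy hz => exact add_mem hy hz
  | ht t m => exact Submodule.smul_mem _ _ (Submodule.subset_span ⟨m, rfl⟩)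

end GrothLib.RingDesc
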