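import Groth.Prelude.Def_Pi1
import Mathlib.Algebra.Module.CharacterModule
import Mathlib.RingTheory.TensorProduct.Basic
import Mathlib.RingTheory.Flat.FaithfullyFlat.Algebra

/-!
# Descent of modules along universally injective ring maps
-/

set_option autoImplicit false
universe u

open TensorProduct

namespace GrothLib.RingDesc

variable {R S : Type u} [CommRing R] [CommRing S] [Algebra R S]

theorem univInjective_of_faithfullyFlat [Module.FaithfullyFlat R S] : Pi1.UnivInjective R S := by
  intro P _ _
  have h : LinearMap.lTensor P (Algebra.linearMap R S) =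
      ((TensorProduct.comm R S P).toLinearMap ∘ₗ TensorProduct.mk R S P 1) ∘ₗ (TensorProduct.rid R P).toLinearMap := by
    refine TensorProduct.ext' fun x r => ?_
    simp [Algebra.algebraMap_eq_smul_one]
  rw [h]
  exact ((TensorProduct.comm R S P).injective.comp (Module.FaithfullyFlat.tensorProduct_mk_injective P)).comp
    (TensorProduct.rid R P).injective

variable (hinj : Pi1.UnivInjective R S)

include hinj

theorem mk_one_injective (P : Type u) [AddCommGroup P] [Module R P] :
    Function.Injective (TensorProduct.mk R S P 1) := by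
  intro x y h
  have := hinj P (a₁ := x ⊗ₜ (1 : R)) (a₂ := y ⊗ₜ (1 : R))
    ((TensorProduct.comm R P S).injective (by simpa using h))
  simpa using congrArg (TensorProduct.rid R P) this

theorem exists_section :
    ∃ σ : CharacterModule R →ₗ[R] CharacterModule S,
      ∀ (φ : CharacterModule R) (r : R), σ φ (algebraMap R S r) = φ r := by
  let c : CharacterModule (CharacterModule R ⊗[R] R) := CharacterModule.uncurry LinearMap.id
  obtain ⟨c', hc'⟩ := CharacterModule.dual_surjective_of_injective _ (hinj (CharacterModule R)) c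
  exact ⟨CharacterModule.curry c', fun φ r => congr($hc' (φ ⊗ₜ r))⟩

/-- A natural extension of characters of `X` to `S ⊗ X`. -/
theorem exists_tau : ∃ τ : ∀ (X : Type u) [AddCommGroup X] [Module R X],
    CharacterModule X →ₗ[R] CharacterModule (S ⊗[R] X),
    (∀ (X : Type u) [AddCommGroup X] [Module R X] (χ : CharacterModule X) (x : X), τ X χ ((1 : S) ⊗ₜ x) = χ x) ∧
    (∀ (X Y : Type u) [AddCommGroup X] [Module R X] [AddCommGroup Y] [Module R Y] (f : X →ₗ[R] Y)
      (χ : CharacterModule Y) (z : S ⊗[R] X),
      τ Y χ (f.lTensor S z) = τ X (CharacterModule.dual f χ) z) := by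
  obtain ⟨σ, hσ⟩ := exists_section hinj
  refine ⟨fun X _ _ => CharacterModule.dual (TensorProduct.comm R S X).toLinearMap ∘ₗ
    CharacterModule.uncurry ∘ₗ LinearMap.compRight R σ ∘ₗ CharacterModule.curry ∘ₗ
      CharacterModule.dual (TensorProduct.rid R X).toLinearMap, ?_, ?_⟩
  · intro X _ _ χ x
    show σ _ (1 : S) = χ x
    rw [← map_one (algebraMap R S), hσ]
    show χ ((1 : R) • x) = χ x
    rw [one_smul]
  · intro X Y _ _ _ _ f χ z
    induction z using TensorProduct.induction_on with
    | zero => simp
    | add a b ha hb => simp only [map_add, ha, hb]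
    | tmul s x =>
      show σ _ s = σ _ s
      congr 2
      refine DFunLike.ext _ _ fun r => ?_
      exact congrArg χ (f.map_smul r x).symm

omit hinj

variable {N : Type u} [AddCommGroup N] [Module R N] [Module S N] [IsScalarTower R S N]

/-- The difference between a coaction and the trivial map. -/
noncomputable def delta (ρ : N →ₗ[S] S ⊗[R] N) : N →ₗ[R] S ⊗[R] N :=
  ρ.restrictScalars R - TensorProduct.mk R S N 1

theorem mem_ker_delta {ρ : N →ₗ[S] S ⊗[R] N} {n : N} :
    n ∈ LinearMap.ker (delta ρ) ↔ ρ n = (1 : S) ⊗ₜ n := by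
  simp [delta, sub_eq_zero]

include hinj in
/-- **Effectivity of descent along a universally injective map.** -/
theorem bijective_of_coaction (ρ : N →ₗ[S] S ⊗[R] N)
    (hμ : ∀ n, LinearMap.liftBaseChange S (LinearMap.id : N →ₗ[R] N) (ρ n) = n)
    (hco : ∀ n, (ρ.restrictScalars R).lTensor S (ρ n) = (TensorProduct.mk R S N 1).lTensor S (ρ n)) :
    Function.Bijective (LinearMap.liftBaseChange S (LinearMap.ker (delta ρ)).subtype) := by
  obtain ⟨τ, hτ1, hτn⟩ := exists_tau hinj
  set M := LinearMap.ker (delta ρ)
  -- the projection on characters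
  let e : CharacterModule N →ₗ[R] CharacterModule N := CharacterModule.dual (ρ.restrictScalars R) ∘ₗ τ N
  have hsplit : ∀ χ n, χ n = e χ n - τ N χ (delta ρ n) := fun χ n => by
    show χ n = τ N χ (ρ n) - τ N χ (ρ n - (1 : S) ⊗ₜ n)
    rw [map_sub, hτ1, sub_sub_cancel]
  have hkill : ∀ χ : CharacterModule N, (∀ m ∈ M, χ m = 0) → e χ = 0 := by
    intro χ hχ
    let ψ₀ : CharacterModule (N ⧸ M) := QuotientAddGroup.lift M.toAddSubgroup χ fun m hm => hχ m hm
    obtain ⟨ψ, hψ⟩ := CharacterModule.dual_surjective_of_injective (M.liftQ (delta ρ) le_rfl)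
      (LinearMap.ker_eq_bot.1 (Submodule.ker_liftQ_eq_bot _ _ _ le_rfl)) ψ₀
    have hχψ : χ = CharacterModule.dual (delta ρ) ψ := DFunLike.ext _ _ fun n =>
      (congr($hψ (Submodule.Quotient.mk n))).symm
    refine DFunLike.ext _ _ fun n => ?_
    show τ N χ (ρ n) = 0
    rw [hχψ, ← hτn N (S ⊗[R] N) (delta ρ) ψ (ρ n)]
    rw [delta, LinearMap.lTensor_sub, LinearMap.sub_apply, hco, sub_self, map_zero]
  have hθ : ∀ z : S ⊗[R] M, ρ (LinearMap.liftBaseChange S M.subtype z) = M.subtype.lTensor S z := fun z => by
    induction z using TensorProduct.induction_on with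
    | zero => simp
    | add a b ha hb => simp only [map_add, ha, hb]
    | tmul s m =>
      rw [LinearMap.liftBaseChange_tmul, map_smul, Submodule.subtype_apply, mem_ker_delta.1 m.2]
      simp [TensorProduct.smul_tmul']
  constructor
  · rw [injective_iff_map_eq_zero]
    intro z hz
    have hz' : M.subtype.lTensor S z = 0 := by rw [← hθ, hz, map_zero]
    refine CharacterModule.eq_zero_of_character_apply fun c => ?_
    let res : CharacterModule N →ₗ[R] CharacterModule M := CharacterModule.dual M.subtype
    have hres : Function.Surjective res :=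
      CharacterModule.dual_surjective_of_injective _ M.injective_subtype
    have hle : LinearMap.ker res ≤ LinearMap.ker e := fun χ hχ => hkill χ fun m hm => congr($hχ ⟨m, hm⟩)
    let ξ : CharacterModule M →ₗ[R] CharacterModule N :=
      (LinearMap.ker res).liftQ e hle ∘ₗ
        (LinearMap.quotKerEquivOfSurjective res hres).symm.toLinearMap
    have hξ : ∀ (φ : CharacterModule M) (m : M), ξ φ m = φ m := fun φ m => by
      obtain ⟨χ, rfl⟩ := hres φ
      have h1 : ξ (res χ) = e χ := by
        show (LinearMap.ker res).liftQ e hle ((LinearMap.quotKerEquivOfSurjective res hres).symm (res χ)) = _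
        rw [show (LinearMap.quotKerEquivOfSurjective res hres).symm (res χ) = Submodule.Quotient.mk χ from
          (LinearEquiv.symm_apply_eq _).2 rfl, Submodule.liftQ_apply]
      rw [h1]
      have := hsplit χ m
      rw [LinearMap.mem_ker.1 m.2, map_zero, sub_zero] at this
      exact this.symm
    have hc : ∀ w : S ⊗[R] M, c w = CharacterModule.uncurry (ξ ∘ₗ CharacterModule.curry c) (M.subtype.lTensor S w) := by
      intro w
      induction w using TensorProduct.induction_on with
      | zero => simp
      | add a b ha hb => simp only [map_add, ha, hb]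
      | tmul s m =>
        show c (s ⊗ₜ m) = ξ (CharacterModule.curry c s) (m : N)
        exact (hξ (CharacterModule.curry c s) m).symm
    rw [hc, hz', map_zero]
  · intro n
    suffices ρ n ∈ LinearMap.range (M.subtype.lTensor S) by
      obtain ⟨z, hz⟩ := this
      refine ⟨z, ?_⟩
      rw [← hμ (LinearMap.liftBaseChange S M.subtype z), hθ, hz, hμ]
    by_contra hn
    obtain ⟨c₀, hc₀⟩ := CharacterModule.exists_character_apply_ne_zero_of_ne_zero
      (a := (Submodule.Quotient.mk (p := LinearMap.range (M.subtype.lTensor S)) (ρ n))) (by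
        rwa [Ne, Submodule.Quotient.mk_eq_zero])
    let c : CharacterModule (S ⊗[R] N) :=
      CharacterModule.dual (LinearMap.range (M.subtype.lTensor S)).mkQ c₀
    let γ : S →ₗ[R] CharacterModule N := CharacterModule.curry c
    have hγ : ∀ s, e (γ s) = 0 := fun s => hkill _ fun m hm => by
      show c₀ (Submodule.Quotient.mk (s ⊗ₜ m)) = 0
      have h0 : (s ⊗ₜ[R] m : S ⊗[R] N) ∈ LinearMap.range (M.subtype.lTensor S) :=
        ⟨s ⊗ₜ[R] (⟨m, hm⟩ : M), rfl⟩
      rw [(Submodule.Quotient.mk_eq_zero _).2 h0, map_zero]
    have hc : ∀ w : S ⊗[R] N,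
        c w = - CharacterModule.uncurry (τ N ∘ₗ γ) ((delta ρ).lTensor S w) := by
      intro w
      induction w using TensorProduct.induction_on with
      | zero => simp
      | add a b ha hb => simp only [map_add, ha, hb, neg_add]
      | tmul s y =>
        show γ s y = - τ N (γ s) (delta ρ y)
        rw [hsplit, hγ, show (0 : CharacterModule N) y = 0 from rfl, zero_sub]
    refine hc₀ ?_
    show c (ρ n) = 0
    rw [hc, delta, LinearMap.lTensor_sub, LinearMap.sub_apply, hco, sub_self, map_zero, neg_zero]

end GrothLib.RingDesc
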